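/-
Isomorphisms of Azumaya algebras over henselian local rings lift from the residue field.
-/
import Groth.Agent.Lib.Henselian.Pair
import Groth.Agent.Lib.Henselian.LocalRing
import Groth.Agent.Lib.Azumaya.Criterion
import Mathlib.RingTheory.HopkinsLevitzki
import Mathlib.RingTheory.LocalRing.Module

set_option autoImplicit false

namespace Groth.Agent.Lib.AzHensel

open scoped TensorProduct
open IsLocalRing MulOpposite

universe u v w

theorem exists_isIdempotentElem_map_eq {S : Type u} {T : Type v} [CommRing S] [IsArtinianRing S]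
    [Ring T] (g : S →+* T) {x : S} (hx : IsIdempotentElem (g x)) :
    ∃ f : S, IsIdempotentElem f ∧ g f = g x := by
  obtain ⟨n, y, hy⟩ := IsArtinian.exists_pow_succ_smul_dvd x (1 : S)
  simp only [smul_eq_mul, mul_one] at hy
  have key : ∀ j, x ^ n = x ^ (n + j) * y ^ j := fun j ↦ by
    induction j with
    | zero => simp
    | succ j ih => calc
        x ^ n = x ^ (n + j) * y ^ j := ih
        _ = x ^ n * (x ^ j * y ^ j) := by ring
        _ = (x ^ (n + 1) * y) * (x ^ j * y ^ j) := by rw [← Nat.succ_eq_add_one, hy]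
        _ = _ := by ring
  have hgp (j : ℕ) : g x ^ (j + 1) = g x := hx.pow_succ_eq j
  have key' := key (n + 1)
  refine ⟨x ^ (n + 1) * y ^ (n + 1), ?_, ?_⟩
  · calc x ^ (n + 1) * y ^ (n + 1) * (x ^ (n + 1) * y ^ (n + 1))
        = x * (x ^ (n + (n + 1)) * y ^ (n + 1)) * y ^ (n + 1) := by ring
      _ = _ := by rw [← key']; ring
  · have h1 : g x * g x ^ n = g x := by rw [← pow_succ', hgp]
    have h2 : x * x ^ n = x ^ (n + 1) * (x ^ (n + 1) * y ^ (n + 1)) := by
      calc x * x ^ n = x * (x ^ (n + (n + 1)) * y ^ (n + 1)) := by rw [← key']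
        _ = _ := by ring
    have h3 := congrArg g h2
    rw [map_mul, map_pow, h1, map_mul, map_pow, hgp] at h3
    calc g (x ^ (n + 1) * y ^ (n + 1))
        = g x * g y ^ (n + 1) := by rw [map_mul, map_pow, map_pow, hgp]
      _ = g x * (g x * g y ^ (n + 1)) := by rw [← mul_assoc, hx.eq]
      _ = g x := by rw [map_mul, map_pow, map_pow, hgp] at h3; exact h3.symm

theorem mem_smul_top_of_one_tmul_eq_zero {R : Type u} [CommRing R] [IsLocalRing R] {M : Type v}
    [AddCommGroup M] [Module R M] {x : M} (h : (1 : ResidueField R) ⊗ₜ[R] x = 0) :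
    x ∈ maximalIdeal R • (⊤ : Submodule R M) := by
  rw [← Submodule.Quotient.mk_eq_zero]
  have := congrArg (TensorProduct.quotTensorEquivQuotSMul M (maximalIdeal R)) h
  change _ = TensorProduct.quotTensorEquivQuotSMul M (maximalIdeal R) 0 at this
  rw [LinearEquiv.map_zero] at this
  change TensorProduct.quotTensorEquivQuotSMul M (maximalIdeal R)
    (Ideal.Quotient.mk _ (1 : R) ⊗ₜ[R] x) = 0 at this
  rwa [TensorProduct.quotTensorEquivQuotSMul_mk_tmul, one_smul] at this

/-- In a finite algebra over a henselian local ring, idempotents lift along homomorphisms killing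
the maximal ideal. -/
theorem exists_idempotent_lift {R : Type u} [CommRing R] [HenselianLocalRing R] {C : Type v}
    [Ring C] [Algebra R C] [Module.Finite R C] {T : Type w} [Ring T] [Algebra R T]
    (ρ : C →ₐ[R] T) (hm : ∀ r ∈ maximalIdeal R, algebraMap R T r = 0)
    {x : C} (hx : IsIdempotentElem (ρ x)) :
    ∃ e : C, IsIdempotentElem e ∧ ρ e = ρ x := by
  have hint : IsIntegral R x := IsIntegral.of_finite R x
  let S := Algebra.adjoin R ({x} : Set C)
  let : CommRing S := Algebra.adjoinCommRingOfComm R (by rintro a rfl b rfl; rfl)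
  have : Module.Finite R S := Module.Finite.iff_fg.mpr hint.fg_adjoin_singleton
  let I := (maximalIdeal R).map (algebraMap R S)
  let g : S →+* T := ρ.toRingHom.comp S.val.toRingHom
  have hg : ∀ a ∈ I, g a = 0 := by
    intro a ha
    have : I ≤ RingHom.ker g := Ideal.map_le_iff_le_comap.mpr fun r hr ↦ by
      rw [Ideal.mem_comap, RingHom.mem_ker]
      exact (ρ.commutes r).trans (hm r hr)
    exact this ha
  let g' : S ⧸ I →+* T := Ideal.Quotient.lift I g hg
  let : Field (R ⧸ maximalIdeal R) := Ideal.Quotient.field _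
  have : IsScalarTower R (R ⧸ maximalIdeal R) (S ⧸ I) := .of_algebraMap_eq' rfl
  have : Module.Finite (R ⧸ maximalIdeal R) (S ⧸ I) := .of_restrictScalars_finite R _ _
  have : IsArtinianRing (S ⧸ I) := IsArtinianRing.of_finite (R ⧸ maximalIdeal R) _
  obtain ⟨f, hf, hfx⟩ := exists_isIdempotentElem_map_eq g'
    (x := Ideal.Quotient.mk I ⟨x, Algebra.self_mem_adjoin_singleton R x⟩) hx
  obtain ⟨f, rfl⟩ := Ideal.Quotient.mk_surjective f
  have : HenselianRing R (maximalIdeal R) :=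
    Groth.Agent.Lib.Henselian.LocalRing.henselianLocalRing_iff_henselianRing.mp ‹_›
  obtain ⟨e, he, hef⟩ := Groth.Agent.Lib.Henselian.Pair.exists_isIdempotentElem_lift
    (maximalIdeal R) (b := f) (Ideal.Quotient.eq.mp (by rw [map_mul]; exact hf))
  refine ⟨e.1, he.map S.val, ?_⟩
  have h1 : g (e - f) = 0 := hg _ hef
  rw [map_sub, sub_eq_zero] at h1
  exact h1.trans hfx

theorem surjective_of_mem_range_sup {R : Type u} [CommRing R] [IsLocalRing R] {M : Type v}
    [AddCommGroup M] [Module R M] {N : Type w} [AddCommGroup N] [Module R N] [Module.Finite R N]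
    (f : M →ₗ[R] N)
    (h : ∀ y, ∃ x, y - f x ∈ maximalIdeal R • (⊤ : Submodule R N)) : Function.Surjective f := by
  rw [← LinearMap.range_eq_top, eq_top_iff]
  refine Submodule.le_of_le_smul_of_le_jacobson_bot Module.Finite.fg_top
    (maximalIdeal_le_jacobson _) fun y _ ↦ ?_
  obtain ⟨x, hx⟩ := h y
  exact Submodule.mem_sup.mpr ⟨f x, ⟨x, rfl⟩, y - f x, hx, by abel⟩

theorem bijective_of_proj {R : Type u} [CommRing R] [IsLocalRing R] {M : Type v}
    [AddCommGroup M] [Module R M] [Module.Finite R M] {N : Type w} [AddCommGroup N] [Module R N]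
    [Module.Finite R N] [Module.Projective R N] {T : Type*} [AddCommGroup T] [Module R T]
    (f : M →ₗ[R] N) (ev : N →ₗ[R] T)
    (hM : ∀ x, ev (f x) = 0 → x ∈ maximalIdeal R • (⊤ : Submodule R M))
    (hN : ∀ y, ev y = 0 → y ∈ maximalIdeal R • (⊤ : Submodule R N))
    (hev : ∀ y, ∃ x, ev (f x) = ev y) : Function.Bijective f := by
  have hs : Function.Surjective f := surjective_of_mem_range_sup f fun y ↦ by
    obtain ⟨x, hx⟩ := hev y
    exact ⟨x, hN _ (by rw [map_sub, hx, sub_self])⟩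
  obtain ⟨g, hg⟩ := Module.projective_lifting_property f LinearMap.id hs
  have hg' : Function.Surjective g := surjective_of_mem_range_sup g fun x ↦
    ⟨f x, hM _ (by rw [map_sub, ← LinearMap.comp_apply f g, hg, LinearMap.id_apply, sub_self, map_zero])⟩
  refine ⟨Function.HasLeftInverse.injective ⟨g, fun x ↦ ?_⟩, hs⟩
  obtain ⟨y, rfl⟩ := hg' x
  exact congrArg g (LinearMap.congr_fun hg y)

theorem exists_algEquiv_lift (R : Type u) [CommRing R] [HenselianLocalRing R] (A : Type v) [Ring A]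
    [Algebra R A] [IsAzumaya R A] (B : Type w) [Ring B] [Algebra R B] [IsAzumaya R B]
    (e₀ : (ResidueField R ⊗[R] A) ≃ₐ[ResidueField R] (ResidueField R ⊗[R] B)) :
    ∃ e : A ≃ₐ[R] B, ∀ a : A,
      e₀ ((1 : ResidueField R) ⊗ₜ[R] a) = (1 : ResidueField R) ⊗ₜ[R] (e a) := by
  let k := ResidueField R
  let B₀ := k ⊗[R] B
  let qA : A →ₐ[R] k ⊗[R] A := Algebra.TensorProduct.includeRight
  let qB : B →ₐ[R] B₀ := Algebra.TensorProduct.includeRight
  have hqA : ∀ z, ∃ a, qA a = z := TensorProduct.mk_surjective R A k residue_surjective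
  have hqB : ∀ z, ∃ b, qB b = z := TensorProduct.mk_surjective R B k residue_surjective
  have : IsAzumaya k B₀ := Groth.Agent.Lib.Azumaya.BaseChange.isAzumaya_baseChange k B
  have : Module.Free R A := Module.free_of_flat_of_isLocalRing
  have : Module.Free R B := Module.free_of_flat_of_isLocalRing
  let C := A ⊗[R] Bᵐᵒᵖ
  have : Module.Free R Bᵐᵒᵖ := Module.Free.of_equiv (opLinearEquiv R)
  -- left and right multiplication
  let lA : A →ₐ[R] Module.End k B₀ :=
    (((Algebra.lsmul k k B₀).restrictScalars R).comp ((e₀.toAlgHom.restrictScalars R).comp qA))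
  let rB : Bᵐᵒᵖ →ₐ[R] Module.End k B₀ :=
    (((Algebra.lsmul k k B₀ : B₀ᵐᵒᵖ →ₐ[k] Module.End k B₀)).restrictScalars R).comp
      (AlgHom.op qB)
  let ρ : C →ₐ[R] Module.End k B₀ := Algebra.TensorProduct.lift lA rB fun a b ↦ by
    refine LinearMap.ext fun y ↦ ?_
    show e₀ (qA a) * (y * qB b.unop) = e₀ (qA a) * y * qB b.unop
    exact (mul_assoc _ _ _).symm
  have hρ (a : A) (b : Bᵐᵒᵖ) (y : B₀) :
      ρ (a ⊗ₜ[R] b) y = e₀ (qA a) * y * qB b.unop := by
    show (lA a * rB b) y = _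
    show e₀ (qA a) * (y * qB b.unop) = _
    exact (mul_assoc _ _ _).symm
  let ρ₀ : k ⊗[R] C →ₗ[k] Module.End k B₀ := ρ.toLinearMap.liftBaseChange k
  have hρ₀surj : Function.Surjective ρ₀ := by
    intro T
    obtain ⟨z, rfl⟩ := (IsAzumaya.bij (R := k) (A := B₀)).2 T
    induction z using TensorProduct.induction_on with
    | zero => exact ⟨0, by simp⟩
    | add z z' hz hz' =>
      obtain ⟨c, hc⟩ := hz
      obtain ⟨c', hc'⟩ := hz'
      exact ⟨c + c', by rw [map_add, hc, hc', map_add]⟩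
    | tmul y z =>
      obtain ⟨a, ha⟩ := hqA (e₀.symm y)
      obtain ⟨b, hb⟩ := hqB z.unop
      refine ⟨1 ⊗ₜ[R] (a ⊗ₜ[R] op b), LinearMap.ext fun w ↦ ?_⟩
      rw [LinearMap.liftBaseChange_tmul, one_smul, AlgHom.toLinearMap_apply, hρ, ha,
        AlgEquiv.apply_symm_apply, unop_op, hb, AlgHom.mulLeftRight_apply]
  have hρ₀inj : Function.Injective ρ₀ := by
    refine (LinearMap.injective_iff_surjective_of_finrank_eq_finrank ?_).mpr hρ₀surj
    rw [Module.finrank_baseChange, Module.finrank_tensorProduct,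
      (Module.finrank_linearMap k k B₀ B₀ : Module.finrank k (Module.End k B₀) = _),
      Module.finrank_baseChange, (opLinearEquiv R).finrank_eq.symm]
    congr 1
    have := e₀.toLinearEquiv.finrank_eq
    rwa [Module.finrank_baseChange, Module.finrank_baseChange] at this
  have hker (c : C) (hc : ρ c = 0) : c ∈ maximalIdeal R • (⊤ : Submodule R C) := by
    refine mem_smul_top_of_one_tmul_eq_zero (hρ₀inj ?_)
    rw [LinearMap.liftBaseChange_tmul, one_smul, map_zero]
    exact hc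
  -- the rank one idempotent
  have : Nontrivial B₀ := (FaithfulSMul.algebraMap_injective k B₀).nontrivial
  obtain ⟨φ, hφ⟩ : ∃ φ : Module.Dual k B₀, φ 1 = 1 := by
    obtain ⟨φ, hφ⟩ : ∃ φ : Module.Dual k B₀, φ 1 ≠ 0 := by
      by_contra! h
      exact one_ne_zero ((Module.forall_dual_apply_eq_zero_iff k (1 : B₀)).mp h)
    exact ⟨(φ 1)⁻¹ • φ, by simp [inv_mul_cancel₀ hφ]⟩
  let ε₀ : Module.End k B₀ := φ.smulRight 1
  have hε₀ : IsIdempotentElem ε₀ := LinearMap.ext fun y ↦ by
    show φ (φ y • (1 : B₀)) • (1 : B₀) = φ y • 1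
    rw [map_smul, hφ, smul_eq_mul, mul_one]
  obtain ⟨x₀, hx₀⟩ := hρ₀surj ε₀
  obtain ⟨x, rfl⟩ := TensorProduct.mk_surjective R C k residue_surjective x₀
  have hx : ρ x = ε₀ := by
    rw [← hx₀]; simp [ρ₀]
  obtain ⟨ε, hε, hρε⟩ := exists_idempotent_lift ρ
    (fun r hr ↦ by
      rw [IsScalarTower.algebraMap_apply R k (Module.End k B₀)]
      rw [show algebraMap R k r = 0 from (residue_eq_zero_iff r).mpr hr, map_zero])
    (x := x) (hx ▸ hε₀)
  rw [hx] at hρε
  -- the bimodule
  let π : C →ₗ[R] C := LinearMap.mulRight R ε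
  let P := LinearMap.range π
  let πr : C →ₗ[R] P := π.rangeRestrict
  have hPε (p : P) : p.1 * ε = p.1 := by
    obtain ⟨_, c, rfl⟩ := p
    show c * ε * ε = c * ε
    rw [mul_assoc, hε.eq]
  have hπr (p : P) : πr p.1 = p := Subtype.ext (hPε p)
  have : Module.Finite R P := Module.Finite.range π
  have : Module.Projective R P := Module.Projective.of_split P.subtype πr
    (LinearMap.ext hπr)
  let fA : A →ₗ[R] P :=
    πr.comp (Algebra.TensorProduct.includeLeft : A →ₐ[R] C).toLinearMap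
  let fB : B →ₗ[R] P := πr.comp ((Algebra.TensorProduct.includeRight : Bᵐᵒᵖ →ₐ[R] C).toLinearMap.comp
    (opLinearEquiv R).toLinearMap)
  let ev : P →ₗ[R] B₀ := ((LinearMap.applyₗ (1 : B₀)).restrictScalars R).comp
    (ρ.toLinearMap.comp P.subtype)
  have hε1 : ρ ε 1 = 1 := by
    rw [hρε]
    show φ 1 • (1 : B₀) = 1
    rw [hφ, one_smul]
  have hevA (a : A) : ev (fA a) = e₀ (qA a) := by
    show ρ ((a ⊗ₜ[R] (1 : Bᵐᵒᵖ)) * ε) 1 = _
    rw [map_mul]
    show ρ (a ⊗ₜ[R] (1 : Bᵐᵒᵖ)) (ρ ε 1) = _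
    rw [hε1, hρ, mul_one, unop_one, map_one, mul_one]
  have hevB (b : B) : ev (fB b) = qB b := by
    show ρ (((1 : A) ⊗ₜ[R] op b) * ε) 1 = _
    rw [map_mul]
    show ρ ((1 : A) ⊗ₜ[R] op b) (ρ ε 1) = _
    rw [hε1, hρ, map_one, map_one, mul_one, one_mul, unop_op]
  have hP (p : P) (hp : ev p = 0) : p ∈ maximalIdeal R • (⊤ : Submodule R P) := by
    have hpρ : ρ p.1 = 0 := by
      rw [← hPε p, map_mul, hρε]
      refine LinearMap.ext fun y ↦ ?_
      show ρ p.1 (φ y • (1 : B₀)) = 0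
      rw [map_smul]
      show φ y • ev p = 0
      rw [hp, smul_zero]
    have := Submodule.mem_map_of_mem (f := πr) (hker _ hpρ)
    rw [Submodule.map_smul'', hπr] at this
    exact Submodule.smul_mono le_rfl le_top this
  have hA : Function.Bijective fA := by
    refine bijective_of_proj (R := R) (M := A) (N := P) (T := B₀) fA ev ?_ hP ?_
    · exact fun a ha ↦ mem_smul_top_of_one_tmul_eq_zero
        (e₀.injective (((hevA a).symm.trans ha).trans (map_zero e₀).symm))
    · intro p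
      obtain ⟨a, ha⟩ := hqA (e₀.symm (ev p))
      exact ⟨a, (hevA a).trans (by rw [ha, AlgEquiv.apply_symm_apply])⟩
  have hB : Function.Bijective fB := by
    refine bijective_of_proj (R := R) (M := B) (N := P) (T := B₀) fB ev ?_ hP ?_
    · exact fun b hb ↦ mem_smul_top_of_one_tmul_eq_zero ((hevB b).symm.trans hb)
    · intro p
      obtain ⟨b, hb⟩ := hqB (ev p)
      exact ⟨b, (hevB b).trans hb⟩
  let E : A ≃ₗ[R] B := (LinearEquiv.ofBijective fA hA).trans (LinearEquiv.ofBijective fB hB).symm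
  have hE (a : A) : fB (E a) = fA a := (LinearEquiv.ofBijective fB hB).apply_symm_apply _
  have hE' (a : A) : ((1 : A) ⊗ₜ[R] op (E a) : C) * ε = (a ⊗ₜ[R] (1 : Bᵐᵒᵖ)) * ε :=
    congrArg Subtype.val (hE a)
  have h1 : E 1 = 1 := hB.1 (by
    refine Subtype.ext ?_
    show ((1 : A) ⊗ₜ[R] op (E 1) : C) * ε = ((1 : A) ⊗ₜ[R] op (1 : B)) * ε
    rw [hE', op_one])
  have hmul (a a' : A) : E (a * a') = E a * E a' := hB.1 (by
    refine Subtype.ext ?_
    show ((1 : A) ⊗ₜ[R] op (E (a * a')) : C) * ε = ((1 : A) ⊗ₜ[R] op (E a * E a')) * ε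
    rw [hE', op_mul]
    calc ((a * a') ⊗ₜ[R] (1 : Bᵐᵒᵖ) : C) * ε
        = (a ⊗ₜ[R] (1 : Bᵐᵒᵖ)) * ((a' ⊗ₜ[R] (1 : Bᵐᵒᵖ)) * ε) := by
          rw [← mul_assoc, Algebra.TensorProduct.tmul_mul_tmul, one_mul]
      _ = (a ⊗ₜ[R] (1 : Bᵐᵒᵖ)) * (((1 : A) ⊗ₜ[R] op (E a')) * ε) := by rw [hE']
      _ = ((1 : A) ⊗ₜ[R] op (E a')) * ((a ⊗ₜ[R] (1 : Bᵐᵒᵖ)) * ε) := by
          rw [← mul_assoc, ← mul_assoc, Algebra.TensorProduct.tmul_mul_tmul,
            Algebra.TensorProduct.tmul_mul_tmul, one_mul, mul_one, one_mul, mul_one]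
      _ = ((1 : A) ⊗ₜ[R] op (E a')) * (((1 : A) ⊗ₜ[R] op (E a)) * ε) := by rw [hE']
      _ = _ := by rw [← mul_assoc, Algebra.TensorProduct.tmul_mul_tmul, one_mul])
  refine ⟨AlgEquiv.ofLinearEquiv E h1 hmul, fun a ↦ ?_⟩
  show e₀ (qA a) = qB (E a)
  rw [← hevA, ← hevB, hE]

end Groth.Agent.Lib.AzHensel
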